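import Cfsg.Agent.Lib.RelDegreeGraph.Main
import Cfsg.Agent.Lib.Blocks.Inflate
import Cfsg.Agent.Lib.Char.Artin
import Cfsg.Agent.Lib.Char.Eigen
import Mathlib.GroupTheory.Solvable

/-!
# Passing to the derived subgroup
-/

set_option autoImplicit false
set_option linter.unusedSectionVars false
set_option linter.style.haveILetI false

namespace CfsgLib.RelDegreeGraph

open Cfsg CfsgLib.Char Module
open scoped ComplexConjugate CfsgLib.Char

/-- An irreducible character with the derived subgroup in its kernel is linear. -/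
theorem degree_one_of_commutator {H : Type*} [Group H] [Finite H] {θ : H → ℂ}
    (hθ : IsIrrCharacter H θ) (h : ∀ u ∈ commutator H, θ u = θ 1) : θ 1 = 1 := by
  obtain ⟨η, hη⟩ := Blocks.exists_inflate_eq_of_ker (commutator H) ⟨θ, hθ⟩ h
  haveI : Finite (H ⧸ commutator H) := Finite.of_surjective _ QuotientGroup.mk_surjective
  have h1 := degree_one_of_comm (G := H ⧸ commutator H)
    (fun a b => mul_comm (G := Abelianization H) a b) η
  have h2 := congrFun (congrArg Subtype.val hη) (1 : H)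
  rw [show θ 1 = _ from h2]
  show (η : H ⧸ commutator H → ℂ) (QuotientGroup.mk' (commutator H) 1) = 1
  rw [map_one]
  exact h1

theorem re_le_degree {H : Type*} [Group H] [Finite H] {φ : H → ℂ} (hφ : IsCharacter H φ) {d : ℕ}
    (hd : φ 1 = d) (g : H) : (φ g).re ≤ d ∧ ((φ g).re = d → φ g = d) := by
  obtain ⟨n, ρ, rfl⟩ := hφ
  have hn : (finrank ℂ (Fin n → ℂ) : ℂ) = (d : ℂ) := by rw [← Representation.char_one ρ, hd]
  have h : ‖ρ.character g‖ ≤ (d : ℝ) := by
    have h1 := norm_character_le ρ g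
    rwa [Nat.cast_injective hn] at h1
  refine ⟨(Complex.re_le_norm _).trans h, fun e => ?_⟩
  have h2 : ‖ρ.character g‖ = (d : ℝ) := le_antisymm h (e ▸ Complex.re_le_norm _)
  have h4 := Complex.sq_norm (ρ.character g)
  rw [h2, Complex.normSq_apply, e] at h4
  apply Complex.ext
  · rw [e, Complex.natCast_re]
  · rw [Complex.natCast_im]
    nlinarith [h4]

variable {G : Type*} [Group G] [Finite G] (N : Subgroup G) [N.Normal]

theorem rel_mono {M : Subgroup G} (hMN : M ≤ N) : relCharDegrees M ⊆ relCharDegrees N := by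
  rintro d ⟨χ, ⟨x, hx, hne⟩, rfl⟩
  exact ⟨χ, ⟨x, hMN hx, hne⟩, rfl⟩

theorem Joined.mono {M : Subgroup G} (hMN : M ≤ N) {a b : ℕ} (h : Joined M a b) :
    Joined N a b := by
  obtain ⟨ha, hb, h⟩ := h
  let f : commonDivisorGraph.induce (relCharDegrees M) →g
      commonDivisorGraph.induce (relCharDegrees N) :=
    { toFun := fun v => ⟨v.1, rel_mono N hMN v.2⟩
      map_rel' := fun h => h }
  exact ⟨rel_mono N hMN ha, rel_mono N hMN hb, h.map f⟩

variable [Fintype G] [Fintype N]

/-- The degree above a non-linear character lies in the degree set of the derived subgroup. -/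
theorem mem_rel_derived {χ : G → ℂ} (hχ : IsIrrCharacter G χ) {θ : N → ℂ}
    (hθ : IsIrrCharacter N θ) (hcon : classInner (fun n : N => χ n) θ ≠ 0) (hθ1 : θ 1 ≠ 1) {a : ℕ}
    (ha : χ 1 = a) : a ∈ relCharDegrees ⁅N, N⁆ := by
  obtain ⟨e, n, he, he0, hn, -, -⟩ := degree_factor N hχ hθ hcon ha
  refine ⟨⟨χ, hχ⟩, ?_, Extraspecial.charDegree_eq ha⟩
  by_contra h
  push Not at h
  refine hθ1 (degree_one_of_commutator hθ fun u hu => ?_)
  have hu' : (u : G) ∈ ⁅N, N⁆ := by
    rw [← Subgroup.map_subtype_commutator N]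
    exact ⟨u, hu, rfl⟩
  have h1 : χ (u : G) = χ 1 := h _ hu'
  have hd := clifford_degree N hχ hθ hcon
  have hs := congrFun (clifford N hχ hθ hcon) u
  simp only [Pi.smul_apply, Finset.sum_apply, smul_eq_mul] at hs
  rw [h1, hd, he] at hs
  have hs2 := (mul_left_cancel₀ (Nat.cast_ne_zero.mpr he0) hs).symm
  rw [hn] at hs2
  have hb : ∀ φ ∈ orbit N θ, (φ u).re ≤ (n : ℝ) ∧ ((φ u).re = n → φ u = n) := fun φ hφ => by
    obtain ⟨g, rfl⟩ := (mem_orbit N).mp hφ
    exact re_le_degree (isCharacter_of_isIrr (isIrrCharacter_conjBy N hθ g))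
      (by rw [conjBy_apply_one, hn]) u
  have hsum : ∑ φ ∈ orbit N θ, (φ u).re = ∑ φ ∈ orbit N θ, (n : ℝ) := by
    rw [← Complex.re_sum, hs2, Finset.sum_const, nsmul_eq_mul, ← Nat.cast_mul,
      Complex.natCast_re, Nat.cast_mul]
  have := (Finset.sum_eq_sum_iff_of_le fun φ hφ => (hb φ hφ).1).mp hsum θ (self_mem_orbit N θ)
  rw [(hb θ (self_mem_orbit N θ)).2 this, hn]

end CfsgLib.RelDegreeGraph
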