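import Cfsg.Agent.Lib.Char.ExtendChar
import Cfsg.Agent.Lib.Char.Clifford

/-!
# The determinant of a sum of characters, and of a restriction
-/

set_option autoImplicit false
set_option linter.unusedSectionVars false

namespace CfsgLib.RelDegreeGraph

open Cfsg CfsgLib.Char
open scoped ComplexConjugate CfsgLib.Char

variable {H : Type*} [Group H] [Finite H]

theorem detChar_add {φ ψ : H → ℂ} (hφ : IsCharacter H φ) (hψ : IsCharacter H ψ) (h : H) :
    detChar (φ + ψ) h = detChar φ h * detChar ψ h := by
  obtain ⟨n, ρ, rfl⟩ := hφ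
  obtain ⟨m, σ, rfl⟩ := hψ
  rw [← char_prod, detChar_character, detChar_character, detChar_character]
  exact LinearMap.det_prodMap (ρ h) (σ h)

theorem detChar_zero (h : H) : detChar (0 : H → ℂ) h = 1 := by
  obtain ⟨f, hf⟩ := exists_det_hom (isCharacter_zero (G := H))
  have e := detChar_add (isCharacter_zero (G := H)) (isCharacter_zero (G := H)) h
  rw [add_zero, hf] at e
  rw [hf]
  exact (mul_eq_left₀ (Units.ne_zero (f h))).mp e.symm

theorem detChar_sum {ι : Type*} (s : Finset ι) (g : ι → H → ℂ) (hg : ∀ i ∈ s, IsCharacter H (g i))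
    (h : H) : detChar (∑ i ∈ s, g i) h = ∏ i ∈ s, detChar (g i) h := by
  classical
  induction s using Finset.induction_on with
  | empty => rw [Finset.sum_empty, Finset.prod_empty, detChar_zero]
  | insert a t hat ih =>
    rw [Finset.sum_insert hat, Finset.prod_insert hat,
      detChar_add (hg a (Finset.mem_insert_self a t))
        (isCharacter_sum _ _ fun i hi => hg i (Finset.mem_insert_of_mem hi)),
      ih fun i hi => hg i (Finset.mem_insert_of_mem hi)]

theorem detChar_nsmul {φ : H → ℂ} (hφ : IsCharacter H φ) (n : ℕ) (h : H) :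
    detChar (n • φ) h = detChar φ h ^ n := by
  induction n with
  | zero => rw [zero_smul, detChar_zero, pow_zero]
  | succ n ih => rw [succ_nsmul, detChar_add (isCharacter_nsmul hφ n) hφ, ih, pow_succ]

/-- The determinantal character as a homomorphism. -/
noncomputable def detH (φ : H → ℂ) (hφ : IsCharacter H φ) : H →* ℂˣ :=
  Classical.choose (exists_det_hom hφ)

theorem detH_apply {φ : H → ℂ} (hφ : IsCharacter H φ) (h : H) :
    (detH φ hφ h : ℂ) = detChar φ h :=
  (congrFun (Classical.choose_spec (exists_det_hom hφ)) h).symm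

theorem detH_monoidHom (f : H →* ℂˣ) :
    detH (fun h => (f h : ℂ)) (isCharacter_monoidHom f) = f := by
  refine MonoidHom.ext fun h => Units.ext ?_
  rw [detH_apply, detChar_linear (isCharacter_monoidHom f) (by rw [map_one, Units.val_one])]

theorem detH_linear_mul {φ : H → ℂ} (hφ : IsCharacter H φ) (β : H →* ℂˣ) (d : ℕ) (hd : φ 1 = d)
    (hβ : IsCharacter H (fun h => (β h : ℂ) * φ h)) :
    detH _ hβ = β ^ d * detH φ hφ := by
  refine MonoidHom.ext fun h => Units.ext ?_
  rw [detH_apply, detChar_linear_mul hφ β d hd, MonoidHom.mul_apply, MonoidHom.pow_apply,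
    Units.val_mul, Units.val_pow_eq_pow_val, detH_apply]

/-- A linear function on a group kills the commutator subgroup. -/
theorem hom_eq_one_of_mem_commutator (f : H →* ℂˣ) {h : H} (hh : h ∈ commutator H) : f h = 1 :=
  Abelianization.commutator_subset_ker f hh

variable {G : Type*} [Group G] [Fintype G] (N : Subgroup G) [N.Normal] [Fintype N]

/-- If `N ≤ G'`, the determinants over an orbit of constituents multiply, with the multiplicity, to
the trivial character. -/
theorem prod_det_orbit (hNG : N ≤ commutator G) {χ : G → ℂ} (hχ : IsIrrCharacter G χ) {θ : N → ℂ}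
    (hθ : IsIrrCharacter N θ) (e : ℕ) (he : classInner (fun n : N => χ n) θ = e) (he0 : e ≠ 0)
    (n : N) : (∏ φ ∈ orbit N θ, detChar φ n) ^ e = 1 := by
  have hχc := isCharacter_of_isIrr hχ
  have hcon : classInner (fun n : N => χ n) θ ≠ 0 := by rw [he]; exact Nat.cast_ne_zero.mpr he0
  have h := clifford N hχ hθ hcon
  rw [he, Nat.cast_smul_eq_nsmul] at h
  have hsum : ∀ φ ∈ orbit N θ, IsCharacter N φ := fun φ hφ => by
    obtain ⟨g, rfl⟩ := (mem_orbit N).mp hφ
    exact isCharacter_of_isIrr (isIrrCharacter_conjBy N hθ g)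
  rw [← detChar_sum _ _ hsum, ← detChar_nsmul (isCharacter_sum _ _ hsum)]
  rw [show (∑ φ ∈ orbit N θ, φ) = (∑ φ ∈ orbit N θ, (fun i => i) φ) from rfl] at h
  rw [← h, detChar_restrict N hχc]
  obtain ⟨f, hf⟩ := exists_det_hom hχc
  rw [hf]
  show ((f (n : G) : ℂˣ) : ℂ) = 1
  rw [hom_eq_one_of_mem_commutator f (hNG n.2), Units.val_one]

end CfsgLib.RelDegreeGraph
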