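import Mathlib.GroupTheory.Index
import Mathlib.GroupTheory.GroupAction.Quotient
import Mathlib.GroupTheory.OrderOfElement
import Mathlib.GroupTheory.Coset.Card
import Mathlib.GroupTheory.PGroup

/-!
# Orbit lengths of a product of two elements with coprime orbit lengths

A group acts by automorphisms on an abelian group; `a` and `b` have orders powers of `r` and orbit
lengths prime to `r`.  Then the orbit length of `a * b` has a common divisor with each of the
orbit lengths of `a` and `b`, unless one of these elements is fixed.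
-/

set_option autoImplicit false

namespace CfsgLib.RelDegreeGraph

variable {G A : Type*} [Group G] [Finite G] [CommGroup A] (act : G →* MulAut A)

/-- The stabiliser of an element. -/
def stab (a : A) : Subgroup G where
  carrier := {g | act g a = a}
  one_mem' := by simp
  mul_mem' := fun {g h} (hg : act g a = a) (hh : act h a = a) => by
    show act (g * h) a = a
    rw [map_mul, MulAut.mul_apply, hh, hg]
  inv_mem' := fun {g} (hg : act g a = a) => by
    show act g⁻¹ a = a
    conv_lhs => rw [← hg, map_inv, MulAut.inv_apply_self]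

theorem mem_stab {a : A} {g : G} : g ∈ stab act a ↔ act g a = a := Iff.rfl

theorem stab_pow_le (a : A) (k : ℕ) : stab act a ≤ stab act (a ^ k) := fun g (hg : act g a = a) => by
  show act g (a ^ k) = a ^ k
  rw [map_pow, hg]

theorem stab_zpow_le (a : A) (k : ℤ) : stab act a ≤ stab act (a ^ k) := fun g (hg : act g a = a) => by
  show act g (a ^ k) = a ^ k
  rw [map_zpow, hg]

theorem act_pow_eq_one {r : ℕ} {a : A} (h : a ^ r = 1) (g : G) : act g a ^ r = 1 := by
  rw [← map_pow, h, map_one]

/-- An element splits into a part of order a power of `r`, written as an `n`-th power, and a part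
of order prime to `r`. -/
theorem split_power (f : A) (h0 : orderOf f ≠ 0) {r n : ℕ} (hr : r.Prime) (hn : ¬ r ∣ n) :
    ∃ (ν f₀ : A) (m : ℕ), ν ∈ Subgroup.zpowers f ∧ f₀ ∈ Subgroup.zpowers f ∧ f = ν ^ n * f₀ ∧
      f₀ ^ m = 1 ∧ ¬ r ∣ m ∧ ∃ k, orderOf ν = r ^ k := by
  obtain ⟨i, m, hrm, him⟩ := Nat.exists_eq_pow_mul_and_not_dvd h0 r hr.ne_one
  have hxi : orderOf (f ^ m) ∣ r ^ i := by
    apply orderOf_dvd_of_pow_eq_one
    rw [← pow_mul, mul_comm, ← him, pow_orderOf_eq_one]
  have hmn : (m * n).Coprime r :=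
    ((hr.coprime_iff_not_dvd.mpr hrm).mul_right (hr.coprime_iff_not_dvd.mpr hn)).symm
  obtain ⟨w, hw⟩ := exists_pow_eq_self_of_coprime (x := f ^ m) (n := m * n)
    ((hmn.pow_right i).coprime_dvd_right hxi)
  set ν := (f ^ m) ^ w with hν
  have hνf : ν ∈ Subgroup.zpowers f :=
    Subgroup.pow_mem _ (Subgroup.pow_mem _ (Subgroup.mem_zpowers f) _) _
  obtain ⟨k, -, hk⟩ := (Nat.dvd_prime_pow hr).mp ((orderOf_pow_dvd (x := f ^ m) w).trans hxi)
  refine ⟨ν, f * (ν ^ n)⁻¹, m, hνf,
    Subgroup.mul_mem _ (Subgroup.mem_zpowers f) (Subgroup.inv_mem _ (Subgroup.pow_mem _ hνf _)),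
    by rw [mul_comm f, mul_inv_cancel_left], ?_, hrm, k, hk⟩
  rw [mul_pow, inv_pow, hν, ← pow_mul, ← pow_mul, mul_inv_eq_one]
  conv_lhs => rw [← hw]
  rw [← pow_mul, mul_comm (m * n) w, mul_comm n m]

theorem mem_zpowers_combine {r n m j : ℕ} (hr : r.Prime) {l f₀ : A} (hl : orderOf l = r ^ j)
    (hn : ¬ r ∣ n) (hm : ¬ r ∣ m) (hf : f₀ ^ m = 1) :
    l ∈ Subgroup.zpowers (l ^ n * f₀) ∧ f₀ ∈ Subgroup.zpowers (l ^ n * f₀) := by
  have hmn : (n * m).Coprime r :=
    ((hr.coprime_iff_not_dvd.mpr hn).mul_right (hr.coprime_iff_not_dvd.mpr hm)).symm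
  obtain ⟨w, hw⟩ := exists_pow_eq_self_of_coprime (x := l) (n := n * m)
    (by rw [hl]; exact hmn.pow_right j)
  have h : (l ^ n * f₀) ^ m = l ^ (n * m) := by rw [mul_pow, hf, mul_one, ← pow_mul]
  set D := l ^ n * f₀ with hD
  have hlD : l ∈ Subgroup.zpowers D := by
    rw [← hw, ← h]
    exact Subgroup.pow_mem _ (Subgroup.pow_mem _ (Subgroup.mem_zpowers D) _) _
  refine ⟨hlD, ?_⟩
  rw [show f₀ = D * (l ^ n)⁻¹ by rw [hD, mul_comm (l ^ n), mul_inv_cancel_right]]
  exact Subgroup.mul_mem _ (Subgroup.mem_zpowers D) (Subgroup.inv_mem _ (Subgroup.pow_mem _ hlD _))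

theorem twist_eq (l ν f₀ f : A) (n : ℕ) (hf : f = ν ^ n * f₀) :
    (l * ν⁻¹) ^ n * f = l ^ n * f₀ := by
  rw [hf, ← mul_assoc, ← mul_pow, inv_mul_cancel_right]

theorem eq_of_split_trivial {ν f₀ f : A} {n : ℕ} (hf : f = ν ^ n * f₀) (h0 : f₀ = 1) (hn : n = 1) :
    f = ν := by
  rw [hf, h0, hn, mul_one, pow_one]

/-- Two subgroups of coprime indices multiply to the whole group. -/
theorem exists_mul_of_coprime {H K : Subgroup G} (h : H.index.Coprime K.index) (g : G) :
    ∃ x ∈ H, ∃ y ∈ K, g = x * y := by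
  have hdvd : H.index * K.index ∣ (H ⊓ K).index :=
    h.mul_dvd_of_dvd_of_dvd (Subgroup.index_dvd_of_le inf_le_left) (Subgroup.index_dvd_of_le inf_le_right)
  have hle := Nat.le_of_dvd (Nat.pos_of_ne_zero Subgroup.index_ne_zero_of_finite) hdvd
  have hrel : (H ⊓ K).relIndex H * H.index = (H ⊓ K).index := Subgroup.relIndex_mul_index inf_le_left
  have hK : K.index ≤ K.relIndex H := by
    rw [← Subgroup.inf_relIndex_right K H, inf_comm]
    by_contra hlt
    push Not at hlt
    have := Nat.mul_lt_mul_of_pos_right hlt (Nat.pos_of_ne_zero (Subgroup.index_ne_zero_of_finite (H := H)))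
    rw [hrel] at this
    rw [mul_comm] at hle
    omega
  classical
  let φ : H ⧸ K.subgroupOf H → G ⧸ K :=
    Quotient.lift (fun x : H => ((x : G) : G ⧸ K)) fun x y hxy => by
      apply QuotientGroup.eq.mpr
      exact Subgroup.mem_subgroupOf.mp (QuotientGroup.leftRel_apply.mp hxy)
  have hinj : Function.Injective φ := by
    intro u v
    refine Quotient.inductionOn₂' u v fun x y hxy => ?_
    exact QuotientGroup.eq.mpr (Subgroup.mem_subgroupOf.mpr (QuotientGroup.eq.mp hxy))
  have hsurj := ((Nat.bijective_iff_injective_and_card φ).mpr ⟨hinj, le_antisymm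
    (Nat.card_le_card_of_injective φ hinj) hK⟩).2
  obtain ⟨u, hu⟩ := hsurj (g : G ⧸ K)
  induction u using QuotientGroup.induction_on with
  | _ x => exact ⟨x, x.2, (x : G)⁻¹ * g, QuotientGroup.eq.mp hu, by group⟩

/-- A finite set invariant under multiplication by the powers of `c` has size divisible by the
order of `c`. -/
theorem orderOf_dvd_ncard (s : Set A) (c : A) (hc : ∀ x ∈ s, c * x ∈ s)
    (hfin : IsOfFinOrder c) : orderOf c ∣ s.ncard := by
  set D := Subgroup.zpowers c with hD
  have hpow : ∀ k : ℕ, ∀ x ∈ s, c ^ k * x ∈ s := by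
    intro k
    induction k with
    | zero => intro x hx; simpa using hx
    | succ k ih => intro x hx; rw [pow_succ', mul_assoc]; exact hc _ (ih x hx)
  have hinv : s = (QuotientGroup.mk : A → A ⧸ D) ⁻¹' ((QuotientGroup.mk : A → A ⧸ D) '' s) := by
    refine Set.Subset.antisymm (Set.subset_preimage_image _ _) ?_
    rintro x ⟨y, hy, hxy⟩
    obtain ⟨k, hk⟩ := hfin.mem_powers_iff_mem_zpowers.mpr (QuotientGroup.eq.mp hxy)
    have := hpow k y hy
    have hk' : c ^ k = y⁻¹ * x := hk
    rwa [hk', mul_comm y⁻¹ x, inv_mul_cancel_right] at this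
  rw [← Nat.card_coe_set_eq, hinv,
    Nat.card_congr (QuotientGroup.preimageMkEquivSubgroupProdSet D _), Nat.card_prod, hD,
    Nat.card_zpowers]
  exact dvd_mul_right _ _

/-- The orbit. -/
def orb (a : A) : Set A := Set.range fun g => act g a

theorem ncard_orb (a : A) : (orb act a).ncard = (stab act a).index := by
  letI : MulAction G A := MulAction.compHom A act
  have h : MulAction.stabilizer G a = stab act a := Subgroup.ext fun g => Iff.rfl
  rw [← h, MulAction.index_stabilizer]
  rfl

theorem half {r : ℕ} [hr : Fact r.Prime] {a b : A} (ha : ∃ k, orderOf a = r ^ k)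
    (hb : (stab act b).index.Coprime r) (hab : (stab act a).index.Coprime (stab act b).index)
    (hf : (stab act (a * b)).index.Coprime (stab act a).index) : ∀ g : G, act g a = a := by
  intro g
  obtain ⟨k, hk⟩ := ha
  have key : ∀ y : G, act y (a * b) ∈ (fun x => a * x) '' orb act b := by
    intro y
    obtain ⟨x, hx, z, hz, rfl⟩ := exists_mul_of_coprime hf.symm y
    refine ⟨act x b, ⟨x, rfl⟩, ?_⟩
    rw [map_mul act x z, MulAut.mul_apply, show act z (a * b) = a * b from hz, map_mul (act x),
      show act x a = a from hx]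
  have key2 : ∀ x ∈ orb act b, a * x ∈ orb act (a * b) := by
    rintro _ ⟨y, rfl⟩
    obtain ⟨x, hx, z, hz, rfl⟩ := exists_mul_of_coprime hab y
    refine ⟨x, ?_⟩
    simp only [map_mul, MulAut.mul_apply, show act x a = a from hx, show act z b = b from hz]
  set c := a⁻¹ * act g a with hc
  have hmem : ∀ x ∈ orb act b, c * x ∈ orb act b := by
    intro x hx
    obtain ⟨z, rfl⟩ := hx
    obtain ⟨y, hy⟩ := key2 _ ⟨g⁻¹ * z, rfl⟩
    obtain ⟨w, hw, hwe⟩ := key (g * y)
    have e : act g a * act z b = a * w := by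
      have e2 : a * w = act (g * y) (a * b) := hwe
      have e3 : act g (act (g⁻¹ * z) b) = act z b := by
        rw [show act z = act g * act (g⁻¹ * z) by rw [← map_mul act, mul_inv_cancel_left]]
        rfl
      rw [e2, map_mul act g y, MulAut.mul_apply, show act y (a * b) = a * act (g⁻¹ * z) b from hy,
        map_mul (act g), e3]
    rw [hc, mul_assoc, show act g a * act z b = a * w from e, inv_mul_cancel_left]
    exact hw
  have hcr : c ^ (r ^ k) = 1 := by
    rw [hc, mul_pow, inv_pow, ← map_pow, ← hk, pow_orderOf_eq_one, map_one, inv_one, one_mul]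
  have hfin : IsOfFinOrder c := isOfFinOrder_iff_pow_eq_one.mpr ⟨_, Nat.pow_pos hr.out.pos, hcr⟩
  have h1 := orderOf_dvd_ncard _ c hmem hfin
  rw [ncard_orb] at h1
  have h2 := orderOf_dvd_of_pow_eq_one hcr
  have hc1 : c = 1 := orderOf_eq_one_iff.mp
    (Nat.eq_one_of_dvd_coprimes (hb.pow_right k) h1 h2)
  rw [hc, inv_mul_eq_one] at hc1
  exact hc1.symm

/-- The common divisors. -/
theorem common_divisors {r : ℕ} [Fact r.Prime] {a b : A} (ha : ∃ k, orderOf a = r ^ k)
    (hb : ∃ k, orderOf b = r ^ k) (hra : (stab act a).index.Coprime r)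
    (hrb : (stab act b).index.Coprime r) (hab : (stab act a).index.Coprime (stab act b).index)
    (ha1 : (stab act a).index ≠ 1) (hb1 : (stab act b).index ≠ 1) :
    ¬ (stab act (a * b)).index.Coprime (stab act a).index ∧
      ¬ (stab act (a * b)).index.Coprime (stab act b).index := by
  constructor
  · intro h
    refine ha1 (Subgroup.index_eq_one.mpr (eq_top_iff.mpr fun g _ => half act ha hrb hab h g))
  · intro h
    rw [mul_comm a b] at h
    refine hb1 (Subgroup.index_eq_one.mpr (eq_top_iff.mpr fun g _ => half act hb hra hab.symm h g))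

end CfsgLib.RelDegreeGraph
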