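import Cfsg.Prelude.Def_DegreeGraph
import Cfsg.Agent.Lib.RelDegreeGraph.Det
import Cfsg.Agent.Lib.RelDegreeGraph.Action
import Cfsg.Agent.Lib.Char.OddDegreeSum
import Cfsg.Agent.Lib.Char.PowerExtension
import Cfsg.Agent.Lib.Char.AbelianQuotient
import Mathlib.GroupTheory.FiniteAbelian.Duality

/-!
# Divisors of the degrees above a character with a given determinant
-/

set_option autoImplicit false
set_option linter.unusedSectionVars false
set_option linter.style.haveILetI false

namespace CfsgLib.RelDegreeGraph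

open Cfsg CfsgLib.Char
open scoped ComplexConjugate CfsgLib.Char

variable {G : Type*} [Group G] [Finite G] (N : Subgroup G) [N.Normal]

/-- The linear characters of `N` are as many as the elements of `N / N'`. -/
theorem card_hom : Nat.card (N →* ℂˣ) = (commutator N).index := by
  haveI : Finite (Abelianization N) := Finite.of_surjective _ QuotientGroup.mk_surjective
  rw [Nat.card_congr Abelianization.lift, Subgroup.index_eq_card]
  exact CommGroup.card_monoidHom_of_hasEnoughRootsOfUnity (Abelianization N) ℂ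

theorem relIndex_eq : ⁅N, N⁆.relIndex N = (commutator N).index := by
  rw [← Subgroup.map_subtype_commutator N, Subgroup.relIndex, Subgroup.subgroupOf,
    Subgroup.comap_map_eq_self_of_injective N.subtype_injective]

theorem finite_hom : Finite (N →* ℂˣ) :=
  Nat.finite_of_card_ne_zero (card_hom N ▸ Subgroup.index_ne_zero_of_finite)

/-- The linear characters of `N`, with a single group instance. -/
def Lin : Type _ := N →* ℂˣ

noncomputable instance : CommGroup (Lin N) := inferInstanceAs (CommGroup (N →* ℂˣ))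

instance : FunLike (Lin N) N ℂˣ := inferInstanceAs (FunLike (N →* ℂˣ) N ℂˣ)

instance : MonoidHomClass (Lin N) N ℂˣ := inferInstanceAs (MonoidHomClass (N →* ℂˣ) N ℂˣ)

/-- A linear character as a homomorphism. -/
def Lin.toHom (κ : Lin N) : N →* ℂˣ := κ

theorem finite_lin : Finite (Lin N) := finite_hom N

theorem card_lin : Nat.card (Lin N) = (commutator N).index := card_hom N

theorem Lin.ext {a b : Lin N} (h : ∀ n : N, a n = b n) : a = b := MonoidHom.ext h

theorem Lin.pow_apply (a : Lin N) (k : ℕ) (n : N) : (a ^ k) n = a n ^ k := rfl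

theorem Lin.one_apply (n : N) : (1 : Lin N) n = 1 := rfl

/-- The determinantal character as a linear character. -/
noncomputable def detL (θ : N → ℂ) (hθ : IsCharacter N θ) : Lin N := detH θ hθ

theorem detL_twist {θ : N → ℂ} (hθ : IsCharacter N θ) (β : Lin N) (d : ℕ) (hd : θ 1 = d)
    (hβ : IsCharacter N (fun h => ((β h : ℂˣ) : ℂ) * θ h)) :
    detL N _ hβ = β ^ d * detL N θ hθ :=
  detH_linear_mul hθ (Lin.toHom N β) d hd hβ

/-- The action on the linear characters. -/
noncomputable def linAct : G →* MulAut (Lin N) where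
  toFun g :=
    { toFun := fun f => f.comp (MulAut.conjNormal g⁻¹ : MulAut N).toMonoidHom
      invFun := fun f => f.comp (MulAut.conjNormal g : MulAut N).toMonoidHom
      left_inv := fun f => MonoidHom.ext fun n => by
        show f (MulAut.conjNormal g⁻¹ (MulAut.conjNormal g n)) = f n
        rw [map_inv, MulAut.inv_apply_self]
      right_inv := fun f => MonoidHom.ext fun n => by
        show f (MulAut.conjNormal g (MulAut.conjNormal g⁻¹ n)) = f n
        rw [map_inv, MulAut.apply_inv_self]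
      map_mul' := fun _ _ => rfl }
  map_one' := MulEquiv.ext fun f => MonoidHom.ext fun n => by
    show f (MulAut.conjNormal (1 : G)⁻¹ n) = f n
    rw [inv_one, map_one, MulAut.one_apply]
  map_mul' g h := MulEquiv.ext fun f => MonoidHom.ext fun n => by
    show f (MulAut.conjNormal (g * h)⁻¹ n) = f (MulAut.conjNormal h⁻¹ (MulAut.conjNormal g⁻¹ n))
    rw [mul_inv_rev, map_mul, MulAut.mul_apply]

theorem linAct_apply (g : G) (f : Lin N) (n : N) :
    linAct N g f n = f (MulAut.conjNormal g⁻¹ n) := rfl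

/-- The stabiliser of a linear character. -/
noncomputable abbrev lstab (f : Lin N) : Subgroup G := stab (linAct N) f

theorem lstab_le_of_mem_zpowers {f k : Lin N} (hk : k ∈ Subgroup.zpowers f) :
    lstab N f ≤ lstab N k := by
  obtain ⟨j, rfl⟩ := Subgroup.mem_zpowers_iff.mp hk
  exact stab_zpow_le (linAct N) f j

theorem detH_congr {φ ψ : N → ℂ} (hφ : IsCharacter N φ) (hψ : IsCharacter N ψ) (h : φ = ψ) :
    detH φ hφ = detH ψ hψ := by
  subst h; rfl

theorem det_conjBy {θ : N → ℂ} (hθ : IsCharacter N θ) (g : G) (n : N) :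
    detChar (conjBy N θ g) n = detH θ hθ (MulAut.conjNormal g n) := by
  rw [conjBy_eq_comp, detH_apply]
  exact detChar_comp (MulAut.conjNormal g : MulAut N).toMonoidHom hθ n

theorem inertia_le_lstab {θ : N → ℂ} (hθ : IsCharacter N θ) :
    inertia N θ ≤ lstab N (detL N θ hθ) := fun g hg => by
  refine MonoidHom.ext fun n => Units.ext ?_
  show ((detH θ hθ) (MulAut.conjNormal g⁻¹ n) : ℂ) = ((detH θ hθ) n : ℂ)
  rw [← det_conjBy N hθ, (mem_inertia N).mp ((inertia N θ).inv_mem hg), detH_apply]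

/-- The number that divides all the degrees above a linear character. -/
noncomputable def cK (κ : Lin N) : ℕ :=
  if (lstab N κ).index = 1 then orderOf κ else (lstab N κ).index

theorem one_lt_cK {κ : Lin N} (hκ : κ ≠ 1) : 1 < cK N κ := by
  haveI := finite_lin N
  unfold cK
  split_ifs with h
  · exact lt_of_le_of_ne (orderOf_pos κ) fun e => hκ (orderOf_eq_one_iff.mp e.symm)
  · exact lt_of_le_of_ne (Nat.pos_of_ne_zero Subgroup.index_ne_zero_of_finite) (Ne.symm h)

variable [Fintype G] [Fintype N]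

/-- The orbit length and the degree divide. -/
theorem degree_factor {χ : G → ℂ} (hχ : IsIrrCharacter G χ) {θ : N → ℂ}
    (hθ : IsIrrCharacter N θ) (hcon : classInner (fun n : N => χ n) θ ≠ 0) {a : ℕ} (ha : χ 1 = a) :
    ∃ e n : ℕ, classInner (fun n : N => χ n) θ = e ∧ e ≠ 0 ∧ θ 1 = n ∧ n ≠ 0 ∧
      a = e * ((orbit N θ).card * n) := by
  obtain ⟨e, he⟩ := exists_nat_classInner (isCharacter_restrict N (isCharacter_of_isIrr hχ))
    (isCharacter_of_isIrr hθ)
  obtain ⟨n, hn0, hn⟩ := exists_nat_degree_irr hθ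
  have h := clifford_degree N hχ hθ hcon
  rw [ha, he, hn] at h
  exact ⟨e, n, he, fun e0 => hcon (by rw [he, e0, Nat.cast_zero]), hn, hn0.ne', by exact_mod_cast h⟩

/-- **The divisor.** -/
theorem cK_dvd (hNG : N ≤ commutator G) {χ : G → ℂ} (hχ : IsIrrCharacter G χ) {θ : N → ℂ}
    (hθ : IsIrrCharacter N θ) (hcon : classInner (fun n : N => χ n) θ ≠ 0) {a : ℕ} (ha : χ 1 = a)
    {κ : Lin N} (hκ : κ ∈ Subgroup.zpowers (detL N θ (isCharacter_of_isIrr hθ))) :
    cK N κ ∣ a := by
  obtain ⟨e, m, he, he0, -, -, rfl⟩ := degree_factor N hχ hθ hcon ha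
  have hle : inertia N θ ≤ lstab N κ :=
    (inertia_le_lstab N (isCharacter_of_isIrr hθ)).trans (lstab_le_of_mem_zpowers N hκ)
  have horb : (lstab N κ).index ∣ (orbit N θ).card := by
    rw [card_orbit_eq_index]; exact Subgroup.index_dvd_of_le hle
  unfold cK
  split_ifs with h1
  · obtain ⟨j, hj⟩ := Subgroup.mem_zpowers_iff.mp hκ
    have hfix : ∀ g, linAct N g κ = κ := fun g => by
      have hm : g ∈ lstab N κ := by rw [Subgroup.index_eq_one.mp h1]; trivial
      exact hm
    have key : κ ^ ((orbit N θ).card * e) = 1 := by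
      refine Lin.ext N fun n => Units.ext ?_
      have h := congrArg (· ^ j) (prod_det_orbit N hNG hχ hθ e he he0 n)
      rw [one_zpow, ← zpow_natCast, ← zpow_mul, mul_comm (e : ℤ) j, zpow_mul, zpow_natCast,
        ← Finset.prod_zpow, Finset.prod_eq_pow_card (b := (κ n : ℂ))] at h
      · rw [Lin.pow_apply, Lin.one_apply, Units.val_pow_eq_pow_val, pow_mul, h,
          Units.val_one]
      · intro φ hφ
        obtain ⟨g, rfl⟩ := (mem_orbit N).mp hφ
        rw [det_conjBy N (isCharacter_of_isIrr hθ), ← Units.val_zpow_eq_zpow_val]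
        have h2 := DFunLike.congr_fun (hfix g⁻¹) n
        rw [linAct_apply, inv_inv] at h2
        rw [← h2, ← hj]
        rfl
    refine (orderOf_dvd_of_pow_eq_one key).trans ?_
    exact ⟨m, by ring⟩
  · exact horb.trans (dvd_mul_of_dvd_right (dvd_mul_right _ _) _)

theorem rel_constituent {χ : G → ℂ} (hχ : IsIrrCharacter G χ) (hrel : ∃ x ∈ N, χ x ≠ χ 1)
    {θ : N → ℂ} (hθ : IsIrrCharacter N θ) (hcon : classInner (fun n : N => χ n) θ ≠ 0) :
    θ ≠ fun _ => 1 := by
  rintro rfl
  obtain ⟨x, hx, hne⟩ := hrel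
  have h := clifford_invariant N hχ hθ (fun g => rfl) hcon
  have h1 := congrFun h ⟨x, hx⟩
  have h2 := congrFun h 1
  simp only [Pi.smul_apply] at h1 h2
  exact hne (h1.trans h2.symm)

theorem exists_rel_over {θ : N → ℂ} (hθ : IsIrrCharacter N θ) (hne : θ ≠ fun _ => 1) :
    ∃ (φ : G → ℂ) (b : ℕ), b ∈ relCharDegrees N ∧ IsIrrCharacter G φ ∧ φ 1 = b ∧
      classInner (fun n : N => φ n) θ ≠ 0 := by
  obtain ⟨χ, hχ⟩ := OddDegreeSum.exists_over N ⟨θ, hθ⟩
  refine ⟨χ, charDegree (χ : G → ℂ), ⟨χ, ?_, rfl⟩, χ.2, OddDegreeSum.charDegree_spec χ, hχ⟩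
  by_contra h
  push_neg at h
  refine hχ ?_
  have e : (fun n : N => (χ : G → ℂ) n) = (χ : G → ℂ) 1 • fun _ : N => (1 : ℂ) :=
    funext fun n => by simp [h n n.2]
  show classInner (fun n : N => (χ : G → ℂ) n) θ = 0
  rw [e, classInner_smul_left, classInner_irr_ne isIrrCharacter_one hθ hne.symm, mul_zero]

/-- A degree in the relative degree set with a constituent. -/
theorem mem_rel {a : ℕ} (ha : a ∈ relCharDegrees N) :
    ∃ (χ : G → ℂ) (θ : N → ℂ), IsIrrCharacter G χ ∧ IsIrrCharacter N θ ∧ θ ≠ (fun _ => 1) ∧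
      χ 1 = a ∧ classInner (fun n : N => χ n) θ ≠ 0 := by
  obtain ⟨χ, hrel, rfl⟩ := ha
  obtain ⟨θ, hθ⟩ := exists_constituent N (isCharacter_of_isIrr χ.2) (irr_degree_ne_zero χ.2)
  exact ⟨χ, θ, χ.2, θ.2, rel_constituent N χ.2 hrel θ.2 hθ, OddDegreeSum.charDegree_spec χ, hθ⟩

theorem detH_ne_one_imp {θ : N → ℂ} (hθ : IsCharacter N θ) (h : detL N θ hθ ≠ 1) :
    θ ≠ fun _ => 1 := fun e => h <| show detH θ hθ = 1 by
  have h1 : (fun n : N => (((1 : N →* ℂˣ) n) : ℂ)) = fun _ : N => (1 : ℂ) := funext fun n => by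
    rw [MonoidHom.one_apply, Units.val_one]
  rw [detH_congr N hθ (isCharacter_monoidHom (1 : N →* ℂˣ)) (e.trans h1.symm), detH_monoidHom]

/-- A linear character gives a degree. -/
theorem exists_rel_linear (hNG : N ≤ commutator G) {κ : Lin N} (hκ : κ ≠ 1) :
    ∃ b ∈ relCharDegrees N, ∀ k ∈ Subgroup.zpowers κ, cK N k ∣ b := by
  have hθ : IsIrrCharacter N (fun h => ((κ h : ℂˣ) : ℂ)) := isIrrCharacter_monoidHom κ.toHom
  have e : detL N _ (isCharacter_of_isIrr hθ) = κ := detH_monoidHom κ.toHom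
  obtain ⟨φ, b, hb, hφ, hφb, hcon⟩ := exists_rel_over N hθ
    (detH_ne_one_imp N (isCharacter_of_isIrr hθ) (by rw [e]; exact hκ))
  exact ⟨b, hb, fun k hk => cK_dvd N hNG hφ hθ hcon hφb (by rw [e]; exact hk)⟩

/-- A constituent fixed by a given `r`-group. -/
theorem exists_fixed_constituent {r : ℕ} [Fact r.Prime] {P : Subgroup G} (hP : IsPGroup r P)
    {χ : G → ℂ} (hχ : IsIrrCharacter G χ) {θ : N → ℂ}
    (hne : θ ≠ fun _ => 1)
    (hcon : classInner (fun n : N => χ n) θ ≠ 0) (hr : ¬ r ∣ (orbit N θ).card) :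
    ∃ g : G, P ≤ inertia N (conjBy N θ g) ∧ conjBy N θ g ≠ (fun _ => 1) ∧
      classInner (fun n : N => χ n) (conjBy N θ g) ≠ 0 := by
  rw [card_orbit_eq_index, Subgroup.index_eq_card] at hr
  obtain ⟨q, hq⟩ := hP.nonempty_fixed_point_of_prime_not_dvd_card (G ⧸ inertia N θ) hr
  induction q using QuotientGroup.induction_on with
  | _ g =>
    refine ⟨g⁻¹, fun x hx => ?_, fun e => hne ?_, ?_⟩
    · rw [mem_inertia, ← conjBy_mul, conjBy_eq_conjBy_iff, inv_inv]
      have h := hq ⟨x, hx⟩
      have h' : ((x * g : G) : G ⧸ inertia N θ) = (g : G ⧸ inertia N θ) := h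
      have h2 := (inertia N θ).inv_mem (QuotientGroup.eq.mp h')
      simpa [mul_assoc] using h2
    · have h := congrArg (fun φ => conjBy N φ g) e
      simp only [← conjBy_mul, inv_mul_cancel, conjBy_one] at h
      exact h
    · rw [← conjBy_restrict N (isClassFunction_of_isCharacter (isCharacter_of_isIrr hχ)) g⁻¹,
        classInner_conjBy]
      exact hcon

end CfsgLib.RelDegreeGraph
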