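import Cfsg.Agent.Lib.RelDegreeGraph.Shape

/-!
# Common neighbours outside the component of a degree
-/

set_option autoImplicit false
set_option linter.unusedSectionVars false
set_option linter.style.haveILetI false

namespace CfsgLib.RelDegreeGraph

open Cfsg CfsgLib.Char
open scoped ComplexConjugate CfsgLib.Char

variable {G : Type*} [Group G] [Finite G]

theorem eq_bot_or_commutator_lt {N : Subgroup G} [hs : Group.IsSolvable N] :
    N = ⊥ ∨ ⁅N, N⁆ < N := by
  rcases subsingleton_or_nontrivial N with h | h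
  · exact Or.inl (Subgroup.eq_bot_of_subsingleton N)
  refine Or.inr (lt_of_le_of_ne ?_ fun e => ?_)
  · rw [← Subgroup.map_subtype_commutator N]
    exact Subgroup.map_subtype_le _
  have h1 := Group.IsSolvable.commutator_lt_top_of_nontrivial (G := N)
  refine h1.ne (Subgroup.map_injective N.subtype_injective ?_)
  rw [Subgroup.map_subtype_commutator, e, ← MonoidHom.range_eq_map, Subgroup.range_subtype]

/-- The statement that is proved by descending through the derived series. -/
theorem common_aux [Fintype G] : ∀ (k : ℕ) (N : Subgroup G), Nat.card N = k → ∀ [N.Normal],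
    Group.IsSolvable N → N ≤ commutator G → ∀ a b c : ℕ, a ∈ relCharDegrees N →
      b ∈ relCharDegrees N → c ∈ relCharDegrees N → ¬ Joined N a b → ¬ Joined N a c →
      Neighbour N b c := by
  classical
  intro k
  induction k using Nat.strong_induction_on with
  | _ k ih =>
    intro N hk _ hsol hNG a b c ha hb hc hab hac
    haveI := hsol
    haveI : Fintype N := Fintype.ofFinite N
    have hlt : ⁅N, N⁆ < N := by
      refine eq_bot_or_commutator_lt.resolve_left fun h => ?_
      obtain ⟨χ, ⟨x, hx, hne⟩, -⟩ := ha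
      rw [h, Subgroup.mem_bot] at hx
      exact hne (by rw [hx])
    have hidx : (commutator N).index ≠ 1 := by
      rw [← relIndex_eq, Ne, Subgroup.relIndex_eq_one]
      exact fun h => absurd (lt_of_lt_of_le hlt h) (lt_irrefl _)
    obtain ⟨r₀, hr₀, hd₀⟩ := Nat.exists_prime_and_dvd hidx
    rcases disconnected_pattern N hNG ha hb hab with ⟨hac1, hball⟩ | ⟨hbcop, haall⟩
    · rcases disconnected_pattern N hNG ha hc hac with ⟨-, hcall⟩ | ⟨-, haall⟩
      · exact ⟨b, hb, Nat.not_coprime_of_dvd_of_dvd hr₀.one_lt (hball _ hr₀ hd₀) (hball _ hr₀ hd₀),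
          Nat.not_coprime_of_dvd_of_dvd hr₀.one_lt (hcall _ hr₀ hd₀) (hball _ hr₀ hd₀)⟩
      · exact absurd (Nat.eq_one_of_dvd_coprimes hac1 (haall _ hr₀ hd₀) hd₀) hr₀.ne_one
    have hccop : c.Coprime (commutator N).index := by
      rcases disconnected_pattern N hNG ha hc hac with ⟨hac1, -⟩ | ⟨h, -⟩
      · exact absurd (Nat.eq_one_of_dvd_coprimes hac1 (haall _ hr₀ hd₀) hd₀) hr₀.ne_one
      · exact h
    obtain ⟨χb, θb, hχb, hθb, hneb, hχb1, hconb⟩ := mem_rel N hb
    obtain ⟨χc, θc, hχc, hθc, hnec, hχc1, hconc⟩ := mem_rel N hc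
    obtain ⟨eb, nb, -, -, hnb, -, hbdeg⟩ := degree_factor N hχb hθb hconb hχb1
    obtain ⟨ec, nc, -, -, hnc, -, hcdeg⟩ := degree_factor N hχc hθc hconc hχc1
    have hnbb : nb ∣ b := hbdeg ▸ dvd_mul_of_dvd_right (dvd_mul_left _ _) _
    have hncc : nc ∣ c := hcdeg ▸ dvd_mul_of_dvd_right (dvd_mul_left _ _) _
    by_cases hfb : detL N θb (isCharacter_of_isIrr hθb) = 1
    swap
    · obtain ⟨r, κ, hw⟩ := witness_of_det N hNG hχb hθb hconb hχb1 hbcop hfb
      by_cases hfc : detL N θc (isCharacter_of_isIrr hθc) = 1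
      · exact neighbour_of_mixed N hNG hw hθc hnec hfc hnc hncc hccop
      · obtain ⟨q, μ, hw'⟩ := witness_of_det N hNG hχc hθc hconc hχc1 hccop hfc
        exact neighbour_of_witnesses N hNG hb hw hw'
    by_cases hfc : detL N θc (isCharacter_of_isIrr hθc) = 1
    swap
    · obtain ⟨q, μ, hw'⟩ := witness_of_det N hNG hχc hθc hconc hχc1 hccop hfc
      obtain ⟨d, hd, h1, h2⟩ :=
        neighbour_of_mixed N hNG hw' hθb hneb hfb hnb hnbb hbcop
      exact ⟨d, hd, h2, h1⟩
    -- both constituents are non-linear; so is a constituent below `a`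
    have hb2 := mem_rel_derived N hχb hθb hconb (nonlinear_of_det N hθb hneb hfb) hχb1
    have hc2 := mem_rel_derived N hχc hθc hconc (nonlinear_of_det N hθc hnec hfc) hχc1
    obtain ⟨χa, θa, hχa, hθa, hnea, hχa1, hcona⟩ := mem_rel N ha
    have ha2 : a ∈ relCharDegrees ⁅N, N⁆ := by
      refine mem_rel_derived N hχa hθa hcona (fun h1 => ?_) hχa1
      have hfa : detL N θa (isCharacter_of_isIrr hθa) ≠ 1 := fun hf =>
        nonlinear_of_det N hθa hnea hf h1
      obtain ⟨r, κ, hr, hrm, hκ, hκf, ho⟩ := exists_prime_part N hfa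
      have hka := cK_dvd N hNG hχa hθa hcona hχa1 hκf
      have hrn : ¬ r ∣ nb := fun h =>
        hr.ne_one (Nat.eq_one_of_dvd_coprimes hbcop (h.trans hnbb) hrm)
      obtain ⟨d, hd, hnd, hkd⟩ := twist_degree N hNG hθb hfb hnb hr hrn hκ ⟨1, by rw [ho, pow_one]⟩
      have hnb1 : nb ≠ 1 := fun h => nonlinear_of_det N hθb hneb hfb (by rw [hnb, h, Nat.cast_one])
      exact hab ((joined_of_not_coprime N ha hd fun h =>
          (one_lt_cK N hκ).ne' (Nat.eq_one_of_dvd_coprimes h hka hkd)).trans N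
        (joined_of_not_coprime N hd hb fun h => hnb1 (Nat.eq_one_of_dvd_coprimes h hnd hnbb)))
    have hle : ⁅N, N⁆ ≤ N := hlt.le
    have hsol' : Group.IsSolvable ↥⁅N, N⁆ :=
      solvable_of_solvable_injective (f := Subgroup.inclusion hle) (Subgroup.inclusion_injective hle)
    have hcard : Nat.card ↥⁅N, N⁆ < k := by
      rw [← hk]
      refine lt_of_le_of_ne (Subgroup.card_le_of_le hle) fun e => hlt.ne ?_
      exact Subgroup.eq_of_le_of_card_ge hle e.ge
    obtain ⟨d, hd, h1, h2⟩ := ih _ hcard ⁅N, N⁆ rfl hsol' (hle.trans hNG) a b c ha2 hb2 hc2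
      (fun h => hab (h.mono N hle)) (fun h => hac (h.mono N hle))
    exact ⟨d, rel_mono N hle hd, h1, h2⟩

/-- A disconnected graph has a complete component and one of diameter at most two. -/
theorem disconnected_shape (N : Subgroup G) [N.Normal] (hsol : Group.IsSolvable N)
    (hNG : N ≤ commutator G)
    (hdisc : ¬ (commonDivisorGraph.induce (relCharDegrees N)).Preconnected) :
    ∃ a₀ : ↥(relCharDegrees N),
      (∀ b c : ↥(relCharDegrees N),
        (commonDivisorGraph.induce (relCharDegrees N)).Reachable a₀ b →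
        (commonDivisorGraph.induce (relCharDegrees N)).Reachable a₀ c → b ≠ c →
        (commonDivisorGraph.induce (relCharDegrees N)).Adj b c) ∧
      ∀ b c : ↥(relCharDegrees N),
        ¬ (commonDivisorGraph.induce (relCharDegrees N)).Reachable a₀ b →
        ¬ (commonDivisorGraph.induce (relCharDegrees N)).Reachable a₀ c → b ≠ c →
        (commonDivisorGraph.induce (relCharDegrees N)).Adj b c ∨
          ∃ d : ↥(relCharDegrees N), (commonDivisorGraph.induce (relCharDegrees N)).Adj b d ∧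
            (commonDivisorGraph.induce (relCharDegrees N)).Adj d c := by
  classical
  haveI : Fintype G := Fintype.ofFinite G
  haveI : Fintype N := Fintype.ofFinite N
  set Γ := commonDivisorGraph.induce (relCharDegrees N) with hΓ
  have hadj : ∀ u v : ↥(relCharDegrees N), u.1 ≠ v.1 → ¬ u.1.Coprime v.1 → Γ.Adj u v := by
    intro u v hne h
    refine ⟨hne, ?_⟩
    have h1 : 0 < Nat.gcd u.1 v.1 := Nat.gcd_pos_of_pos_left _ (pos_of_mem N u.2)
    have h2 : Nat.gcd u.1 v.1 ≠ 1 := h
    show 1 < Nat.gcd u.1 v.1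
    omega
  obtain ⟨u, v, huv⟩ : ∃ u v, ¬ Γ.Reachable u v := by
    by_contra h
    push Not at h
    exact hdisc h
  have hpat := fun (x y : ↥(relCharDegrees N)) (h : ¬ Γ.Reachable x y) =>
    disconnected_pattern N hNG x.2 y.2 fun ⟨_, _, h'⟩ => h h'
  have hidx : (commutator N).index ≠ 1 := by
    have hlt : ⁅N, N⁆ < N := by
      refine (eq_bot_or_commutator_lt (hs := hsol)).resolve_left fun h => ?_
      obtain ⟨χ, ⟨x, hx, hne⟩, -⟩ := u.2
      rw [h, Subgroup.mem_bot] at hx
      exact hne (by rw [hx])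
    rw [← relIndex_eq, Ne, Subgroup.relIndex_eq_one]
    exact fun h => absurd (lt_of_lt_of_le hlt h) (lt_irrefl _)
  obtain ⟨r, hr, hd⟩ := Nat.exists_prime_and_dvd hidx
  obtain ⟨a₀, w, hw, hra⟩ : ∃ a₀ w, ¬ Γ.Reachable a₀ w ∧ r ∣ a₀.1 := by
    rcases hpat u v huv with ⟨-, h⟩ | ⟨-, h⟩
    · exact ⟨v, u, fun h' => huv h'.symm, h r hr hd⟩
    · exact ⟨u, v, huv, h r hr hd⟩
  have hwr : ¬ r ∣ w.1 := fun h => hw (by
    obtain ⟨_, _, h'⟩ := joined_of_not_coprime N a₀.2 w.2
      (Nat.not_coprime_of_dvd_of_dvd hr.one_lt hra h)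
    exact h')
  refine ⟨a₀, fun b c hb hc hne => ?_, fun b c hb hc hne => ?_⟩
  · have hside : ∀ x, Γ.Reachable a₀ x → r ∣ x.1 := by
      intro x hx
      rcases hpat x w (fun h => hw (hx.trans h)) with ⟨-, h⟩ | ⟨-, h⟩
      · exact absurd (h r hr hd) hwr
      · exact h r hr hd
    exact hadj b c (fun e => hne (Subtype.ext e))
      (Nat.not_coprime_of_dvd_of_dvd hr.one_lt (hside b hb) (hside c hc))
  · by_cases hcop : b.1.Coprime c.1
    swap
    · exact Or.inl (hadj b c (fun e => hne (Subtype.ext e)) hcop)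
    obtain ⟨d, hd', h1, h2⟩ := common_aux _ N rfl hsol hNG a₀.1 b.1 c.1 a₀.2 b.2 c.2
      (fun ⟨_, _, h⟩ => hb h) (fun ⟨_, _, h⟩ => hc h)
    refine Or.inr ⟨⟨d, hd'⟩, hadj _ _ (fun e => h2 ?_) h1,
      hadj _ _ (fun e => h1 ?_) fun h => h2 h.symm⟩
    · rw [← show b.1 = d from e]; exact hcop.symm
    · rw [show d = c.1 from e]; exact hcop

end CfsgLib.RelDegreeGraph
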