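import Cfsg.Agent.Lib.RelDegreeGraph.Basic
import Mathlib.GroupTheory.Sylow
import Mathlib.GroupTheory.Perm.Cycle.Type

/-!
# The key step for the relative degree graph

For a prime `r` dividing `|N : N'|` a good linear character `l` is chosen; every degree prime to
`r` has a common divisor with a degree that has a common divisor with `cK N l`.
-/

set_option autoImplicit false
set_option linter.unusedSectionVars false
set_option linter.style.haveILetI false

namespace CfsgLib.RelDegreeGraph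

open Cfsg CfsgLib.Char
open scoped ComplexConjugate CfsgLib.Char

variable {G : Type*} [Group G] [Finite G] (N : Subgroup G) [N.Normal]

/-- The linear character that is chosen for a prime. -/
structure Choice (r : ℕ) (P : Subgroup G) (l : Lin N) : Prop where
  ne : l ≠ 1
  pow : ∃ j, orderOf l = r ^ j
  fix : P ≤ lstab N l
  pref : ∀ ν : Lin N, ν ≠ 1 → (∃ j, orderOf ν = r ^ j) → P ≤ lstab N ν →
    (lstab N ν).index ≠ 1 → (lstab N l).index ≠ 1

theorem exists_choice {r : ℕ} [hr : Fact r.Prime] {P : Subgroup G} (hP : IsPGroup r P)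
    (hd : r ∣ (commutator N).index) : ∃ l, Choice N r P l := by
  classical
  haveI := finite_lin N
  by_cases h : ∃ ν : Lin N, ν ≠ 1 ∧ (∃ j, orderOf ν = r ^ j) ∧ P ≤ lstab N ν ∧
      (lstab N ν).index ≠ 1
  · obtain ⟨ν, h1, h2, h3, h4⟩ := h
    exact ⟨ν, ⟨h1, h2, h3, fun _ _ _ _ _ => h4⟩⟩
  obtain ⟨f₁, hf₁⟩ := exists_prime_orderOf_dvd_card' (G := Lin N) r (card_lin N ▸ hd)
  let K : Subgroup (Lin N) := (powMonoidHom r : (Lin N) →* (Lin N)).ker
  letI : MulAction P K :=
    { smul := fun y f => ⟨linAct N y f.1,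
        act_pow_eq_one (linAct N) (r := r) (a := f.1) (MonoidHom.mem_ker.mp f.2) (y : G)⟩
      one_smul := fun f => Subtype.ext (show linAct N ((1 : P) : G) f.1 = f.1 by
        rw [Subgroup.coe_one, map_one, MulAut.one_apply])
      mul_smul := fun y z f => Subtype.ext
        (show linAct N ((y * z : P) : G) f.1 = linAct N (y : G) (linAct N (z : G) f.1) by
          rw [Subgroup.coe_mul, map_mul, MulAut.mul_apply]) }
  have hf₁K : f₁ ∈ K := by
    show f₁ ^ r = 1
    rw [← hf₁, pow_orderOf_eq_one]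
  have hd' : r ∣ Nat.card K := by
    have := orderOf_dvd_natCard (⟨f₁, hf₁K⟩ : K)
    rwa [Subgroup.orderOf_mk, hf₁] at this
  obtain ⟨l, hl, hl1⟩ := hP.exists_fixed_point_of_prime_dvd_card_of_fixed_point K hd'
    (a := (1 : K)) (fun y => Subtype.ext (map_one (linAct N (y : G))))
  refine ⟨l.1, ⟨fun e => hl1 (Subtype.ext e.symm), ⟨1, ?_⟩, fun y hy => ?_, fun ν a b c d =>
    (h ⟨ν, a, b, c, d⟩).elim⟩⟩
  · rw [pow_one]
    exact orderOf_eq_prime l.2 fun e => hl1 (Subtype.ext e.symm)
  · exact congrArg Subtype.val (hl (⟨y, hy⟩ : P))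

variable [Fintype G] [Fintype N]

/-- **The key step.** -/
theorem key (hNG : N ≤ commutator G) {r : ℕ} [hr : Fact r.Prime] {P : Subgroup G}
    (hP : IsPGroup r P) (hPi : ¬ r ∣ P.index) {l : Lin N} (hl : Choice N r P l) {a : ℕ}
    (ha : a ∈ relCharDegrees N) (hra : ¬ r ∣ a) :
    ∃ b ∈ relCharDegrees N, ¬ a.Coprime b ∧ ¬ b.Coprime (cK N l) := by
  classical
  haveI := finite_lin N
  obtain ⟨χ, θ₀, hχ, hθ₀, hne₀, hχa, hcon₀⟩ := mem_rel N ha
  obtain ⟨e, n, -, -, hn, hn0, hadeg⟩ := degree_factor N hχ hθ₀ hcon₀ hχa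
  have hro : ¬ r ∣ (orbit N θ₀).card := fun h => hra (by
    rw [hadeg]; exact dvd_mul_of_dvd_right (dvd_mul_of_dvd_left h _) _)
  have hrn : ¬ r ∣ n := fun h => hra (by
    rw [hadeg]; exact dvd_mul_of_dvd_right (dvd_mul_of_dvd_right h _) _)
  obtain ⟨g, hPθ, hne, hcon⟩ := exists_fixed_constituent N hP hχ hne₀ hcon₀ hro
  set θ := conjBy N θ₀ g with hθdef
  have hθ : IsIrrCharacter N θ := isIrrCharacter_conjBy N hθ₀ g
  have hθn : θ 1 = n := by rw [hθdef, conjBy_apply_one, hn]
  set f := detL N θ (isCharacter_of_isIrr hθ) with hf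
  have hPf : P ≤ lstab N f := hPθ.trans (inertia_le_lstab N _)
  have hindex : ∀ k : Lin N, P ≤ lstab N k → (lstab N k).index.Coprime r := fun k hk =>
    ((hr.out.coprime_iff_not_dvd).mpr fun h => hPi (h.trans (Subgroup.index_dvd_of_le hk))).symm
  -- the two parts of the determinant
  obtain ⟨jl, hjl⟩ := hl.pow
  obtain ⟨ν, f₀, m, hνf, hf₀f, hfe, hf₀m, hrm, hνr⟩ :=
    split_power f (orderOf_pos f).ne' hr.out hrn
  -- the new character
  have hθ' : IsIrrCharacter N (fun h => (((l * ν⁻¹) h : ℂˣ) : ℂ) * θ h) :=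
    isIrrCharacter_linear_mul hθ (Lin.toHom N (l * ν⁻¹))
  set D := detL N _ (isCharacter_of_isIrr hθ') with hD
  have hDe : D = l ^ n * f₀ := by
    have h1 : D = (l * ν⁻¹) ^ n * f := detL_twist N (isCharacter_of_isIrr hθ) _ n hθn _
    exact h1.trans (twist_eq l ν f₀ f n hfe)
  obtain ⟨hlD, hf₀D⟩ := mem_zpowers_combine hr.out hjl hrn hrm hf₀m
  rw [← hDe] at hlD hf₀D
  have hD1 : D ≠ 1 := fun h => hl.ne (by
    rwa [h, Subgroup.zpowers_one_eq_bot, Subgroup.mem_bot] at hlD)
  obtain ⟨φ, b, hb, hφ, hφb, hφcon⟩ :=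
    exists_rel_over N hθ' (detH_ne_one_imp N (isCharacter_of_isIrr hθ') hD1)
  have hlb : cK N l ∣ b := cK_dvd N hNG hφ hθ' hφcon hφb hlD
  have hbl : ¬ b.Coprime (cK N l) :=
    Nat.not_coprime_of_dvd_of_dvd (one_lt_cK N hl.ne) hlb dvd_rfl
  -- common divisor through the degree of the constituent
  by_cases hn1 : n = 1
  swap
  · refine ⟨b, hb, Nat.not_coprime_of_dvd_of_dvd (d := n) (by omega) ?_ ?_, hbl⟩
    · rw [hadeg]; exact dvd_mul_of_dvd_right (dvd_mul_left _ _) _
    · obtain ⟨e', n', -, -, hn', -, hbdeg⟩ := degree_factor N hφ hθ' hφcon hφb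
      simp only [map_one, Units.val_one, one_mul, hθn, Nat.cast_inj] at hn'
      rw [hbdeg, hn']
      exact dvd_mul_of_dvd_right (dvd_mul_left _ _) _
  -- common divisor through the part of the determinant of order prime to `r`
  by_cases hf1 : f₀ = 1
  swap
  · exact ⟨b, hb, Nat.not_coprime_of_dvd_of_dvd (one_lt_cK N hf1)
      (cK_dvd N hNG hχ hθ hcon hχa hf₀f) (cK_dvd N hNG hφ hθ' hφcon hφb hf₀D), hbl⟩
  -- now the constituent is a linear character of order a power of `r`
  have hfν : f = ν := eq_of_split_trivial hfe hf1 hn1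
  have hf_ne : f ≠ 1 := by
    intro h
    refine hne (funext fun x => ?_)
    have h1 : ((f x : ℂˣ) : ℂ) = detChar θ x := detH_apply (isCharacter_of_isIrr hθ) x
    rw [h, detChar_linear (isCharacter_of_isIrr hθ) (by rw [hθn, hn1, Nat.cast_one]),
      Lin.one_apply, Units.val_one] at h1
    exact h1.symm
  have hfr : ∃ k, orderOf f = r ^ k := by
    rw [hfν]; exact hνr
  have hcf : cK N f ∣ a := cK_dvd N hNG hχ hθ hcon hχa (Subgroup.mem_zpowers f)
  have hfi : (lstab N f).index ≠ 1 := by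
    intro h
    obtain ⟨k, hk⟩ := hfr
    refine hra ((dvd_pow_self r (n := k) ?_).trans ?_)
    · rintro rfl
      exact hf_ne (orderOf_eq_one_iff.mp (by rw [hk, pow_zero]))
    · rwa [cK, if_pos h, hk] at hcf
  have hli : (lstab N l).index ≠ 1 := hl.pref f hf_ne hfr hPf hfi
  have hcfe : cK N f = (lstab N f).index := if_neg hfi
  have hcle : cK N l = (lstab N l).index := if_neg hli
  by_cases hde : (lstab N l).index.Coprime (lstab N f).index
  · obtain ⟨h1, h2⟩ := common_divisors (r := r) (a := l) (b := f) (linAct N) hl.pow hfr (hindex l hl.fix) (hindex f hPf)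
      hde hli hfi
    have hprod : (lstab N (l * f)).index ≠ 1 := fun h => h1 (by
      show Nat.Coprime (lstab N (l * f)).index _
      rw [h]; exact Nat.coprime_one_left _)
    have hne2 : l * f ≠ 1 := by
      intro h
      refine hprod (Subgroup.index_eq_one.mpr (eq_top_iff.mpr fun g _ => ?_))
      show linAct N g (l * f) = l * f
      rw [h, map_one]
    obtain ⟨c, hc, hcd⟩ := exists_rel_linear N hNG hne2
    have hfc : (lstab N (l * f)).index ∣ c := by
      have := hcd _ (Subgroup.mem_zpowers _)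
      rwa [cK, if_neg hprod] at this
    refine ⟨c, hc, fun h => h2 ?_, fun h => h1 ?_⟩
    · exact (h.symm.coprime_dvd_left hfc).coprime_dvd_right (hcfe ▸ hcf)
    · rw [hcle] at h
      exact h.coprime_dvd_left hfc
  · refine ⟨a, ha, fun h => ?_, fun h => hde ?_⟩
    · rw [Nat.coprime_self] at h
      rw [hcfe, h, Nat.dvd_one] at hcf
      exact hfi hcf
    · rw [hcle] at h
      exact (h.coprime_dvd_left (hcfe ▸ hcf)).symm

end CfsgLib.RelDegreeGraph
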