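import Cfsg.Agent.Lib.RelDegreeGraph.Key
import Mathlib.Combinatorics.SimpleGraph.Connectivity.Connected

/-!
# The relative degree graph has at most two components
-/

set_option autoImplicit false
set_option linter.unusedSectionVars false
set_option linter.style.haveILetI false

namespace CfsgLib.RelDegreeGraph

open Cfsg CfsgLib.Char
open scoped ComplexConjugate CfsgLib.Char

variable {G : Type*} [Group G] [Finite G] (N : Subgroup G) [N.Normal]

/-- Joined in the relative degree graph. -/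
def Joined (a b : ℕ) : Prop :=
  ∃ (ha : a ∈ relCharDegrees N) (hb : b ∈ relCharDegrees N),
    (commonDivisorGraph.induce (relCharDegrees N)).Reachable ⟨a, ha⟩ ⟨b, hb⟩

theorem pos_of_mem {a : ℕ} (ha : a ∈ relCharDegrees N) : 0 < a := by
  obtain ⟨χ, -, rfl⟩ := ha
  exact OddDegreeSum.charDegree_pos χ

theorem joined_of_not_coprime {a b : ℕ} (ha : a ∈ relCharDegrees N) (hb : b ∈ relCharDegrees N)
    (h : ¬ a.Coprime b) : Joined N a b := by
  refine ⟨ha, hb, ?_⟩
  rcases eq_or_ne a b with rfl | hne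
  · exact SimpleGraph.Reachable.refl _
  · refine SimpleGraph.Adj.reachable (show (commonDivisorGraph.induce (relCharDegrees N)).Adj
      ⟨a, ha⟩ ⟨b, hb⟩ from ?_)
    have h1 : 0 < Nat.gcd a b := Nat.gcd_pos_of_pos_left _ (pos_of_mem N ha)
    refine ⟨hne, ?_⟩
    show 1 < Nat.gcd a b
    have : Nat.gcd a b ≠ 1 := h
    omega

theorem Joined.trans {a b c : ℕ} (h : Joined N a b) (h' : Joined N b c) : Joined N a c := by
  obtain ⟨ha, hb, h⟩ := h
  obtain ⟨hb', hc, h'⟩ := h'
  exact ⟨ha, hc, h.trans h'⟩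

theorem Joined.symm {a b : ℕ} (h : Joined N a b) : Joined N b a := by
  obtain ⟨ha, hb, h⟩ := h
  exact ⟨hb, ha, h.symm⟩

theorem mem_zpowers_mul {A : Type*} [CommGroup A] {a b : A} {r q i j : ℕ} (hr : r.Prime)
    (hq : q.Prime) (hrq : r ≠ q) (ha : orderOf a = r ^ i) (hb : orderOf b = q ^ j) :
    a ∈ Subgroup.zpowers (a * b) ∧ b ∈ Subgroup.zpowers (a * b) := by
  have h := mem_zpowers_combine (n := 1) (m := q ^ j) hr ha (fun h => hr.ne_one (Nat.dvd_one.mp h))
    (fun h => hrq ((Nat.prime_dvd_prime_iff_eq hr hq).mp (hr.dvd_of_dvd_pow h)))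
    (by rw [← hb]; exact pow_orderOf_eq_one b)
  rwa [pow_one] at h

variable [Fintype G] [Fintype N]

/-- For each prime dividing `|N : N'|`, a character through which all the degrees prime to it are
joined. -/
theorem exists_hub (hNG : N ≤ commutator G) {r : ℕ} (hr : r.Prime)
    (hd : r ∣ (commutator N).index) :
    ∃ l : Lin N, l ≠ 1 ∧ (∃ j, orderOf l = r ^ j) ∧
      ∀ a ∈ relCharDegrees N, ¬ r ∣ a → ∀ c ∈ relCharDegrees N, cK N l ∣ c → Joined N a c := by
  haveI : Fact r.Prime := ⟨hr⟩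
  obtain ⟨P⟩ : Nonempty (Sylow r G) := inferInstance
  obtain ⟨l, hl⟩ := exists_choice N P.2 hd
  refine ⟨l, hl.ne, hl.pow, fun a ha hra c hc hlc => ?_⟩
  obtain ⟨b, hb, hab, hbl⟩ := key N hNG P.2 P.not_dvd_index hl ha hra
  exact (joined_of_not_coprime N ha hb hab).trans N
    (joined_of_not_coprime N hb hc fun h => hbl (h.coprime_dvd_right hlc))

theorem card_components (hN : ⁅N, N⁆ < N) (hNG : N ≤ commutator G) :
    Nat.card (commonDivisorGraph.induce (relCharDegrees N)).ConnectedComponent ≤ 2 := by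
  classical
  have hidx : (commutator N).index ≠ 1 := by
    rw [← relIndex_eq, Ne, Subgroup.relIndex_eq_one]
    exact fun h => absurd (lt_of_lt_of_le hN h) (lt_irrefl _)
  obtain ⟨r, hr, hd⟩ := Nat.exists_prime_and_dvd hidx
  obtain ⟨l, hl, -, hjoin⟩ := exists_hub N hNG hr hd
  obtain ⟨x₀, hx₀, hx₀d⟩ := exists_rel_linear N hNG hl
  set Γ := commonDivisorGraph.induce (relCharDegrees N) with hΓ
  let g : Bool → Γ.ConnectedComponent := fun s =>
    if h : s = true ∧ ∃ a ∈ relCharDegrees N, r ∣ a then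
      Γ.connectedComponentMk ⟨h.2.choose, h.2.choose_spec.1⟩
    else Γ.connectedComponentMk ⟨x₀, hx₀⟩
  have hg : Function.Surjective g := by
    intro C
    induction C using SimpleGraph.ConnectedComponent.ind with
    | _ v =>
      obtain ⟨a, ha⟩ := v
      by_cases hra : r ∣ a
      · have h : true = true ∧ ∃ a ∈ relCharDegrees N, r ∣ a := ⟨rfl, a, ha, hra⟩
        refine ⟨true, ?_⟩
        simp only [g, dif_pos h]
        obtain ⟨_, _, hr'⟩ := joined_of_not_coprime N h.2.choose_spec.1 ha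
          (Nat.not_coprime_of_dvd_of_dvd hr.one_lt h.2.choose_spec.2 hra)
        exact SimpleGraph.ConnectedComponent.eq.mpr hr'
      · refine ⟨false, ?_⟩
        simp only [g, Bool.false_eq_true, false_and, dite_false]
        obtain ⟨_, _, hr'⟩ := (hjoin a ha hra x₀ hx₀ (hx₀d l (Subgroup.mem_zpowers l))).symm N
        exact SimpleGraph.ConnectedComponent.eq.mpr hr'
  exact (Nat.card_le_card_of_surjective g hg).trans (by simp)

theorem disconnected_pattern (hNG : N ≤ commutator G) {a b : ℕ} (ha : a ∈ relCharDegrees N)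
    (hb : b ∈ relCharDegrees N) (hab : ¬ Joined N a b) :
    (a.Coprime (commutator N).index ∧ ∀ r : ℕ, r.Prime → r ∣ (commutator N).index → r ∣ b) ∨
      (b.Coprime (commutator N).index ∧ ∀ r : ℕ, r.Prime → r ∣ (commutator N).index → r ∣ a) := by
  classical
  have hone : ∀ r : ℕ, r.Prime → r ∣ (commutator N).index → r ∣ a ∨ r ∣ b := by
    intro r hr hd
    by_contra h
    push Not at h
    obtain ⟨l, hl, -, hjoin⟩ := exists_hub N hNG hr hd
    obtain ⟨c, hc, hcd⟩ := exists_rel_linear N hNG hl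
    exact hab ((hjoin a ha h.1 c hc (hcd l (Subgroup.mem_zpowers l))).trans N
      ((hjoin b hb h.2 c hc (hcd l (Subgroup.mem_zpowers l))).symm N))
  have hnot : ∀ r q : ℕ, r.Prime → r ∣ (commutator N).index → q.Prime →
      q ∣ (commutator N).index → r ∣ a → q ∣ b → False := by
    intro r q hr hdr hq hdq hra hqb
    have hrb : ¬ r ∣ b := fun h =>
      hab (joined_of_not_coprime N ha hb (Nat.not_coprime_of_dvd_of_dvd hr.one_lt hra h))
    have hqa : ¬ q ∣ a := fun h =>
      hab (joined_of_not_coprime N ha hb (Nat.not_coprime_of_dvd_of_dvd hq.one_lt h hqb))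
    have hrq : r ≠ q := fun h => hrb (h ▸ hqb)
    obtain ⟨l, hl, ⟨i, hi⟩, hjl⟩ := exists_hub N hNG hr hdr
    obtain ⟨k, hk, ⟨j, hj⟩, hjk⟩ := exists_hub N hNG hq hdq
    obtain ⟨h1, h2⟩ := mem_zpowers_mul hr hq hrq hi hj
    have hne : l * k ≠ 1 := fun h => hl (by
      rwa [h, Subgroup.zpowers_one_eq_bot, Subgroup.mem_bot] at h1)
    obtain ⟨c, hc, hcd⟩ := exists_rel_linear N hNG hne
    exact hab ((hjk a ha hqa c hc (hcd k h2)).trans N ((hjl b hb hrb c hc (hcd l h1)).symm N))
  by_cases h : ∃ r : ℕ, r.Prime ∧ r ∣ (commutator N).index ∧ r ∣ a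
  · obtain ⟨r, hr, hdr, hra⟩ := h
    refine Or.inr ⟨Nat.coprime_of_dvd fun q hq hqb hdq => hnot r q hr hdr hq hdq hra hqb,
      fun q hq hdq => (hone q hq hdq).resolve_right fun hqb => hnot r q hr hdr hq hdq hra hqb⟩
  · push Not at h
    exact Or.inl ⟨Nat.coprime_of_dvd fun q hq hqa hdq => h q hq hdq hqa,
      fun q hq hdq => (hone q hq hdq).resolve_left (h q hq hdq)⟩

end CfsgLib.RelDegreeGraph
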