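import Cfsg.Agent.Lib.RelDegreeGraph.Descend

/-!
# The shape of a disconnected relative degree graph
-/

set_option autoImplicit false
set_option linter.unusedSectionVars false
set_option linter.style.haveILetI false

namespace CfsgLib.RelDegreeGraph

open Cfsg CfsgLib.Char
open scoped ComplexConjugate CfsgLib.Char

/-- Conjugating an element so that it is fixed by a given `r`-group. -/
theorem exists_fixed_translate {G A : Type*} [Group G] [Finite G] [CommGroup A] (act : G →* MulAut A)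
    {r : ℕ} [Fact r.Prime] {P : Subgroup G} (hP : IsPGroup r P) (a : A)
    (h : ¬ r ∣ (stab act a).index) :
    ∃ g : G, P ≤ stab act (act g a) ∧ (stab act (act g a)).index = (stab act a).index := by
  rw [Subgroup.index_eq_card] at h
  obtain ⟨q, hq⟩ := hP.nonempty_fixed_point_of_prime_not_dvd_card (G ⧸ stab act a) h
  induction q using QuotientGroup.induction_on with
  | _ g =>
    refine ⟨g, fun x hx => ?_, ?_⟩
    · have h' : ((x * g : G) : G ⧸ stab act a) = (g : G ⧸ stab act a) := hq ⟨x, hx⟩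
      have h2 : act ((x * g)⁻¹ * g) a = a := QuotientGroup.eq.mp h'
      show act x (act g a) = act g a
      conv_rhs => rw [← mul_inv_cancel_left (x * g) g, map_mul, MulAut.mul_apply, h2, map_mul,
        MulAut.mul_apply]
    · rw [← ncard_orb, ← ncard_orb]
      congr 1
      ext y
      constructor
      · rintro ⟨k, rfl⟩
        exact ⟨k * g, by show act (k * g) a = act k (act g a); rw [map_mul, MulAut.mul_apply]⟩
      · rintro ⟨k, rfl⟩
        refine ⟨k * g⁻¹, ?_⟩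
        show act (k * g⁻¹) (act g a) = act k a
        rw [← MulAut.mul_apply, ← map_mul, inv_mul_cancel_right]

variable {G : Type*} [Group G] [Finite G] (N : Subgroup G) [N.Normal]

/-- A linear character attached to a degree that is prime to `|N : N'|`. -/
def Witness (b : ℕ) (r : ℕ) (κ : Lin N) : Prop :=
  r.Prime ∧ r ∣ (commutator N).index ∧ κ ≠ 1 ∧ (∃ j, orderOf κ = r ^ j) ∧
    (lstab N κ).index.Coprime r ∧ (lstab N κ).index ≠ 1 ∧ (lstab N κ).index ∣ b

/-- A common neighbour, or one of the two. -/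
def Neighbour (b c : ℕ) : Prop :=
  ∃ d ∈ relCharDegrees N, ¬ b.Coprime d ∧ ¬ c.Coprime d

variable [Fintype G] [Fintype N]

theorem exists_prime_part {f : Lin N} (hf : f ≠ 1) :
    ∃ (r : ℕ) (κ : Lin N), r.Prime ∧ r ∣ (commutator N).index ∧ κ ≠ 1 ∧
      κ ∈ Subgroup.zpowers f ∧ orderOf κ = r := by
  haveI := finite_lin N
  obtain ⟨r, hr, hd⟩ := Nat.exists_prime_and_dvd
    (fun h : orderOf f = 1 => hf (orderOf_eq_one_iff.mp h))
  have ho : orderOf (f ^ (orderOf f / r)) = r := orderOf_pow_orderOf_div (orderOf_pos f).ne' hd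
  refine ⟨r, f ^ (orderOf f / r), hr, hd.trans (card_lin N ▸ orderOf_dvd_natCard f), fun h => ?_,
    Subgroup.pow_mem _ (Subgroup.mem_zpowers f) _, ho⟩
  rw [h, orderOf_one] at ho
  exact hr.ne_one ho.symm

theorem witness_of_det (hNG : N ≤ commutator G) {χ : G → ℂ} (hχ : IsIrrCharacter G χ) {θ : N → ℂ}
    (hθ : IsIrrCharacter N θ) (hcon : classInner (fun n : N => χ n) θ ≠ 0) {b : ℕ} (hb : χ 1 = b)
    (hcop : b.Coprime (commutator N).index) (hf : detL N θ (isCharacter_of_isIrr hθ) ≠ 1) :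
    ∃ r κ, Witness N b r κ := by
  obtain ⟨r, κ, hr, hrm, hκ, hκf, ho⟩ := exists_prime_part N hf
  have hdvd := cK_dvd N hNG hχ hθ hcon hb hκf
  have hrb : b.Coprime r := hcop.coprime_dvd_right hrm
  have hi : (lstab N κ).index ≠ 1 := fun h => by
    rw [cK, if_pos h, ho] at hdvd
    exact hr.ne_one (Nat.eq_one_of_dvd_coprimes hrb hdvd dvd_rfl)
  rw [cK, if_neg hi] at hdvd
  exact ⟨r, κ, hr, hrm, hκ, ⟨1, by rw [ho, pow_one]⟩, hrb.coprime_dvd_left hdvd, hi, hdvd⟩

theorem neighbour_of_witnesses (hNG : N ≤ commutator G) {b c r q : ℕ}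
    (hbm : b ∈ relCharDegrees N) {κ μ : Lin N} (hb : Witness N b r κ) (hc : Witness N c q μ) :
    Neighbour N b c := by
  obtain ⟨hr, -, hκ, ⟨i, hi⟩, hκr, hκ1, hκb⟩ := hb
  obtain ⟨hq, -, hμ, ⟨j, hj⟩, hμq, hμ1, hμc⟩ := hc
  rcases ne_or_eq r q with hrq | rfl
  · obtain ⟨h1, h2⟩ := mem_zpowers_mul hr hq hrq hi hj
    have hne : κ * μ ≠ 1 := fun h => hκ (by
      rwa [h, Subgroup.zpowers_one_eq_bot, Subgroup.mem_bot] at h1)
    obtain ⟨d, hd, hdd⟩ := exists_rel_linear N hNG hne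
    have hd1 := hdd _ h1
    have hd2 := hdd _ h2
    rw [cK, if_neg hκ1] at hd1
    rw [cK, if_neg hμ1] at hd2
    exact ⟨d, hd, fun h => hκ1 (Nat.eq_one_of_dvd_coprimes h hκb hd1),
      fun h => hμ1 (Nat.eq_one_of_dvd_coprimes h hμc hd2)⟩
  by_cases hcop : (lstab N κ).index.Coprime (lstab N μ).index
  swap
  · refine ⟨b, hbm, fun h => ?_, fun h => ?_⟩
    · rw [Nat.coprime_self] at h
      exact hκ1 (Nat.dvd_one.mp (h ▸ hκb))
    · exact hcop ((h.symm.coprime_dvd_left hκb).coprime_dvd_right hμc)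
  haveI : Fact r.Prime := ⟨hr⟩
  obtain ⟨P⟩ : Nonempty (Sylow r G) := inferInstance
  obtain ⟨g, hg, hgi⟩ := exists_fixed_translate (linAct N) P.2 κ
    (fun h => hr.ne_one (Nat.eq_one_of_dvd_coprimes hκr h dvd_rfl))
  obtain ⟨k, hk, hki⟩ := exists_fixed_translate (linAct N) P.2 μ
    (fun h => hr.ne_one (Nat.eq_one_of_dvd_coprimes hμq h dvd_rfl))
  set κ' := linAct N g κ with hκ'
  set μ' := linAct N k μ with hμ'
  obtain ⟨h1, h2⟩ := common_divisors (linAct N) (a := κ') (b := μ') (r := r)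
    ⟨i, by rw [hκ', MulEquiv.orderOf_eq, hi]⟩ ⟨j, by rw [hμ', MulEquiv.orderOf_eq, hj]⟩
    (by rw [hgi]; exact hκr) (by rw [hki]; exact hμq) (by rw [hgi, hki]; exact hcop)
    (by rw [hgi]; exact hκ1) (by rw [hki]; exact hμ1)
  have hprod : (lstab N (κ' * μ')).index ≠ 1 := fun h => h1 (by
    show Nat.Coprime (lstab N (κ' * μ')).index _
    rw [h]; exact Nat.coprime_one_left _)
  have hne : κ' * μ' ≠ 1 := fun h => hprod (Subgroup.index_eq_one.mpr (eq_top_iff.mpr
    fun x _ => show linAct N x (κ' * μ') = κ' * μ' by rw [h, map_one]))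
  obtain ⟨d, hd, hdd⟩ := exists_rel_linear N hNG hne
  have hdi := hdd _ (Subgroup.mem_zpowers _)
  rw [cK, if_neg hprod] at hdi
  refine ⟨d, hd, fun h => h1 ?_, fun h => h2 ?_⟩
  · exact (h.symm.coprime_dvd_left hdi).coprime_dvd_right (hgi.symm ▸ hκb)
  · exact (h.symm.coprime_dvd_left hdi).coprime_dvd_right (hki.symm ▸ hμc)

/-- A character with trivial determinant is multiplied by a linear character. -/
theorem twist_degree (hNG : N ≤ commutator G) {θ : N → ℂ} (hθ : IsIrrCharacter N θ)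
    (hf : detL N θ (isCharacter_of_isIrr hθ) = 1) {n : ℕ} (hn : θ 1 = n) {r : ℕ} (hr : r.Prime)
    (hrn : ¬ r ∣ n) {κ : Lin N} (hκ : κ ≠ 1) (ho : ∃ j, orderOf κ = r ^ j) :
    ∃ d ∈ relCharDegrees N, n ∣ d ∧ cK N κ ∣ d := by
  obtain ⟨j, hj⟩ := ho
  have hθ' : IsIrrCharacter N (fun h => ((κ h : ℂˣ) : ℂ) * θ h) :=
    isIrrCharacter_linear_mul hθ κ.toHom
  have hD : detL N _ (isCharacter_of_isIrr hθ') = κ ^ n := by
    rw [detL_twist N (isCharacter_of_isIrr hθ) κ n hn, hf, mul_one]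
  have hmem : κ ∈ Subgroup.zpowers (κ ^ n) := by
    have h := (mem_zpowers_combine (n := n) (m := 1) (f₀ := (1 : Lin N)) hr hj hrn
      (fun h => hr.ne_one (Nat.dvd_one.mp h)) (one_pow 1)).1
    rwa [mul_one] at h
  have hne : detL N _ (isCharacter_of_isIrr hθ') ≠ 1 := fun h => hκ (by
    rwa [← hD, h, Subgroup.zpowers_one_eq_bot, Subgroup.mem_bot] at hmem)
  obtain ⟨φ, d, hd, hφ, hφd, hcon⟩ :=
    exists_rel_over N hθ' (detH_ne_one_imp N (isCharacter_of_isIrr hθ') hne)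
  refine ⟨d, hd, ?_, cK_dvd N hNG hφ hθ' hcon hφd (hD.symm ▸ hmem)⟩
  obtain ⟨e, n', -, -, hn', -, hdeg⟩ := degree_factor N hφ hθ' hcon hφd
  simp only [map_one, Units.val_one, one_mul, hn, Nat.cast_inj] at hn'
  rw [hdeg, hn']
  exact dvd_mul_of_dvd_right (dvd_mul_left _ _) _

theorem nonlinear_of_det {θ : N → ℂ} (hθ : IsIrrCharacter N θ) (hne : θ ≠ fun _ => 1)
    (hf : detL N θ (isCharacter_of_isIrr hθ) = 1) : θ 1 ≠ 1 := fun h => hne (funext fun x => by
  have h1 : ((detL N θ (isCharacter_of_isIrr hθ) x : ℂˣ) : ℂ) = detChar θ x :=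
    detH_apply (isCharacter_of_isIrr hθ) x
  rw [hf, detChar_linear (isCharacter_of_isIrr hθ) h, Lin.one_apply, Units.val_one] at h1
  exact h1.symm)

/-- A witness and a non-linear character with trivial determinant give a neighbour. -/
theorem neighbour_of_mixed (hNG : N ≤ commutator G) {b c r : ℕ} {κ : Lin N}
    (hb : Witness N b r κ) {θ : N → ℂ} (hθ : IsIrrCharacter N θ)
    (hne : θ ≠ fun _ => 1)
    (hf : detL N θ (isCharacter_of_isIrr hθ) = 1) {n : ℕ} (hn : θ 1 = n) (hnc : n ∣ c)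
    (hcop : c.Coprime (commutator N).index) : Neighbour N b c := by
  obtain ⟨hr, hrm, hκ, ho, -, hκ1, hκb⟩ := hb
  have hn1 : n ≠ 1 := fun h => nonlinear_of_det N hθ hne hf (by rw [hn, h, Nat.cast_one])
  have hrn : ¬ r ∣ n := fun h =>
    hr.ne_one (Nat.eq_one_of_dvd_coprimes hcop (h.trans hnc) hrm)
  obtain ⟨d, hd, hnd, hkd⟩ := twist_degree N hNG hθ hf hn hr hrn hκ ho
  rw [cK, if_neg hκ1] at hkd
  exact ⟨d, hd, fun h => hκ1 (Nat.eq_one_of_dvd_coprimes h hκb hkd),
    fun h => hn1 (Nat.eq_one_of_dvd_coprimes h hnc hnd)⟩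

end CfsgLib.RelDegreeGraph
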